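import Groth.Prelude.Def_EndRing
import Mathlib.AlgebraicGeometry.Geometrically.Integral
import Mathlib.AlgebraicGeometry.Morphisms.Proper
import Mathlib.AlgebraicGeometry.Morphisms.FlatDescent
import Mathlib.AlgebraicGeometry.Group.Abelian
import Mathlib.CategoryTheory.Monoidal.Cartesian.Over
import Mathlib.CategoryTheory.Monoidal.Cartesian.CommGrp_

/-!
# Finite products of abelian varieties

`K520.Prod.exists_prod`: a finite family of abelian varieties over a field has a product `P`, an abelian variety, with
projections which are homomorphisms and the universal property on points.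
`K520.Prod.exists_pow`: the power `A^n` with projections `pr i` and inclusions `inc i` in `EndAV.Hom`.
Also: descent of geometric integrality along flat surjective morphisms.
-/

set_option autoImplicit false
universe u v

open CategoryTheory AlgebraicGeometry Limits MonoidalCategory CartesianMonoidalCategory MonObj

namespace K520.Prod

/-- Composites of flat geometrically integral morphisms locally of finite presentation. -/
lemma geometricallyIntegral_comp {X Y Z : Scheme.{u}} (f : X ⟶ Y) (g : Y ⟶ Z)
    [GeometricallyIntegral f] [GeometricallyIntegral g] [Flat f] [LocallyOfFinitePresentation f]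
    [LocallyOfFiniteType g] : GeometricallyIntegral (f ≫ g) := by
  refine ⟨fun K _ x Z' fst snd hZ => ?_⟩
  have h1 : IsIntegral (pullback g x) :=
    GeometricallyIntegral.geometrically_isIntegral _ _ _ (.of_hasPullback _ _)
  have h2 : IsLocallyNoetherian (pullback g x) :=
    LocallyOfFiniteType.isLocallyNoetherian (pullback.snd g x)
  have h3 : IsIntegral (pullback f (pullback.fst g x)) := inferInstance
  have h4 : Nonempty Z' := by
    obtain ⟨z⟩ := (inferInstance : Nonempty (pullback f (pullback.fst g x) : Scheme))
    exact ⟨(hZ.isoPullback.inv) ((pullbackRightPullbackFstIso g x f).hom z)⟩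
  exact isIntegral_of_isOpenImmersion
    (hZ.isoPullback.hom ≫ (pullbackRightPullbackFstIso g x f).inv)

theorem isReduced_of_flat_surjective {X Y : Scheme.{u}} (g : X ⟶ Y) [Flat g] [Surjective g] [IsReduced X] :
    IsReduced Y := by
  have : ∀ x : Y, _root_.IsReduced (Y.presheaf.stalk x) := by
    intro x
    obtain ⟨z, rfl⟩ := g.surjective x
    have hinj : Function.Injective (g.stalkMap z).hom := by
      algebraize [(g.stalkMap z).hom]
      have : Module.FaithfullyFlat (Y.presheaf.stalk (g z)) (X.presheaf.stalk z) :=
        @Module.FaithfullyFlat.of_flat_of_isLocalHom _ _ _ _ _ _ _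
          (Flat.stalkMap g z) (g.toLRSHom.prop z)
      exact ‹RingHom.FaithfullyFlat _›.injective
    exact isReduced_of_injective (g.stalkMap z).hom hinj
  exact isReduced_of_isReduced_stalk Y

/-- Geometric integrality descends along flat surjective morphisms of the source. -/
theorem geometricallyIntegral_of_flat_surjective {X Y S : Scheme.{u}} (q : X ⟶ Y) (g : Y ⟶ S) [Flat q]
    [Surjective q] [GeometricallyIntegral (q ≫ g)] : GeometricallyIntegral g := by
  refine ⟨fun K _ y W fst snd h => ?_⟩
  have hp : IsPullback (pullback.fst q fst) (pullback.snd q fst ≫ snd) (q ≫ g) y :=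
    (IsPullback.of_hasPullback q fst).paste_vert h
  have h1 : IsIntegral (pullback q fst : Scheme.{u}) :=
    GeometricallyIntegral.geometrically_isIntegral (f := q ≫ g) _ _ _ hp
  have h2 : Function.Surjective (pullback.snd q fst) := (inferInstance : Surjective (pullback.snd q fst)).surj
  rw [isIntegral_iff_irreducibleSpace_and_isReduced] at h1 ⊢
  obtain ⟨h3, h4⟩ := h1
  exact ⟨h2.irreducibleSpace (pullback.snd q fst).continuous, isReduced_of_flat_surjective (pullback.snd q fst)⟩

section field

variable {k : Type u} [Field k]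

theorem isProper_tensor (A B : Over (Spec (CommRingCat.of k))) [IsProper A.hom] [IsProper B.hom] :
    IsProper (A ⊗ B).hom := by
  show IsProper (pullback.fst A.hom B.hom ≫ A.hom)
  infer_instance

theorem geometricallyIntegral_tensor (A B : Over (Spec (CommRingCat.of k))) [LocallyOfFiniteType A.hom]
    [LocallyOfFiniteType B.hom] [GeometricallyIntegral A.hom] [GeometricallyIntegral B.hom] :
    GeometricallyIntegral (A ⊗ B).hom := by
  show GeometricallyIntegral (pullback.fst A.hom B.hom ≫ A.hom)
  have : LocallyOfFinitePresentation B.hom := inferInstance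
  have : Flat B.hom := inferInstance
  exact geometricallyIntegral_comp _ _

theorem geometricallyIntegral_unit : GeometricallyIntegral (𝟙_ (Over (Spec (CommRingCat.of k)))).hom := by
  refine ⟨fun K _ y W fst snd h => ?_⟩
  have h1 : IsIso ((𝟙_ (Over (Spec (CommRingCat.of k)))).hom) := inferInstanceAs (IsIso (𝟙 _))
  have : IsIso snd := h.isIso_snd_of_isIso
  have : Nonempty W := ⟨(inv snd) (IsLocalRing.closedPoint K)⟩
  exact isIntegral_of_isOpenImmersion snd

/-- Finite products of abelian varieties. -/
theorem exists_prod (n : ℕ) : ∀ (N : Fin n → Over (Spec (CommRingCat.of k))) [∀ i, GrpObj (N i)]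
    [∀ i, IsCommMonObj (N i)] [∀ i, IsProper (N i).hom] [∀ i, GeometricallyIntegral (N i).hom],
    ∃ (P : Over (Spec (CommRingCat.of k))) (_ : GrpObj P) (_ : IsCommMonObj P) (_ : IsProper P.hom)
      (_ : GeometricallyIntegral P.hom) (π : ∀ i, P ⟶ N i), (∀ i, IsMonHom (π i)) ∧
      (∀ (T : Over (Spec (CommRingCat.of k))) (a b : T ⟶ P), (∀ i, a ≫ π i = b ≫ π i) → a = b) ∧
      (∀ (T : Over (Spec (CommRingCat.of k))) (v : ∀ i, T ⟶ N i), ∃ w : T ⟶ P, ∀ i, w ≫ π i = v i) := by
  induction n with
  | zero =>
    intro N _ _ _ _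
    refine ⟨𝟙_ (Over _), inferInstance, inferInstance, inferInstanceAs (IsProper (𝟙 _)),
      geometricallyIntegral_unit, fun i => i.elim0, fun i => i.elim0, ?_, ?_⟩
    · intro T a b _
      exact toUnit_unique _ _
    · intro T v
      exact ⟨toUnit T, fun i => i.elim0⟩
  | succ n ih =>
    intro N _ _ _ _
    obtain ⟨P, hP1, hP2, hP3, hP4, π, h4, h5, h6⟩ := ih (fun i => N i.castSucc)
    refine ⟨P ⊗ N (Fin.last n), inferInstance, inferInstance, isProper_tensor _ _,
      geometricallyIntegral_tensor _ _, Fin.lastCases (snd _ _) (fun i => fst _ _ ≫ π i), ?_, ?_, ?_⟩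
    · intro i
      refine Fin.lastCases ?_ (fun i => ?_) i
      · dsimp only
        rw [Fin.lastCases_last]
        infer_instance
      · dsimp only
        rw [Fin.lastCases_castSucc]
        have := h4 i
        infer_instance
    · intro T a b hab
      apply CartesianMonoidalCategory.hom_ext
      · refine h5 _ _ _ fun i => ?_
        have := hab i.castSucc
        dsimp only at this
        rw [Fin.lastCases_castSucc] at this
        rw [Category.assoc, Category.assoc, this]
      · have := hab (Fin.last n)
        dsimp only at this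
        rwa [Fin.lastCases_last] at this
    · intro T v
      obtain ⟨w, hw⟩ := h6 T (fun i => v i.castSucc)
      refine ⟨lift w (v (Fin.last n)), fun i => ?_⟩
      refine Fin.lastCases ?_ (fun i => ?_) i
      · dsimp only
        rw [Fin.lastCases_last, lift_snd]
      · dsimp only
        rw [Fin.lastCases_castSucc, lift_fst_assoc, hw]

/-- Finite powers of an abelian variety, with projections and inclusions. -/
theorem exists_pow (A : Over (Spec (CommRingCat.of k))) [GrpObj A] [IsCommMonObj A] [IsProper A.hom]
    [GeometricallyIntegral A.hom] (n : ℕ) :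
    ∃ (P : Over (Spec (CommRingCat.of k))) (_ : GrpObj P) (_ : IsCommMonObj P) (_ : IsProper P.hom)
      (_ : GeometricallyIntegral P.hom) (pr : Fin n → EndAV.Hom P A) (inc : Fin n → EndAV.Hom A P),
      (∀ (T : Over (Spec (CommRingCat.of k))) (a b : T ⟶ P), (∀ i, a ≫ (pr i).toHom = b ≫ (pr i).toHom) → a = b) ∧
      (∀ (T : Over (Spec (CommRingCat.of k))) (v : Fin n → (T ⟶ A)), ∃ w : T ⟶ P, ∀ i, w ≫ (pr i).toHom = v i) ∧
      (∀ (T : Over (Spec (CommRingCat.of k))) [GrpObj T] [IsCommMonObj T] (v : Fin n → EndAV.Hom T A),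
        ∃ w : EndAV.Hom T P, ∀ i, w ≫ pr i = v i) ∧
      (∀ i, inc i ≫ pr i = 𝟙 _) ∧ (∀ i j, i ≠ j → inc i ≫ pr j = 0) ∧ (∑ i, pr i ≫ inc i = 𝟙 _) := by
  classical
  obtain ⟨P, hP1, hP2, hP3, hP4, π, h4, h5, h6⟩ := exists_prod n (fun _ => A)
  let pr : Fin n → EndAV.Hom P A := fun i => have := h4 i; EndAV.Hom.of (π i)
  have hlift : ∀ (T : Over (Spec (CommRingCat.of k))) [GrpObj T] [IsCommMonObj T] (v : Fin n → EndAV.Hom T A),
        ∃ w : EndAV.Hom T P, ∀ i, w ≫ pr i = v i := by
    intro T _ _ v
    obtain ⟨w, hw⟩ := h6 T (fun i => (v i).toHom)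
    have hmon : IsMonHom w := by
      constructor
      · refine h5 _ _ _ fun i => ?_
        have := h4 i
        rw [Category.assoc, hw, IsMonHom.one_hom, IsMonHom.one_hom]
      · refine h5 _ _ _ fun i => ?_
        have := h4 i
        rw [Category.assoc, Category.assoc, hw, IsMonHom.mul_hom, IsMonHom.mul_hom, ← hw i, ← tensorHom_comp_tensorHom_assoc]
    refine ⟨EndAV.Hom.of w, fun i => EndAV.Hom.ext (hw i)⟩
  choose inc hinc using fun i : Fin n => hlift A (fun j => if i = j then 𝟙 _ else 0)
  refine ⟨P, hP1, hP2, hP3, hP4, pr, inc, h5, h6, hlift, ?_, ?_, ?_⟩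
  · intro i
    rw [hinc, if_pos rfl]
  · intro i j hij
    rw [hinc, if_neg hij]
  · apply EndAV.Hom.ext
    refine h5 _ _ _ fun j => ?_
    have : (∑ i, pr i ≫ inc i) ≫ pr j = 𝟙 _ ≫ pr j := by
      rw [Preadditive.sum_comp, Category.id_comp, Finset.sum_eq_single j]
      · rw [Category.assoc, hinc, if_pos rfl, Category.comp_id]
      · intro i _ hij
        rw [Category.assoc, hinc, if_neg hij, comp_zero]
      · intro h; exact absurd (Finset.mem_univ j) h
    exact congrArg EndAV.Hom.toHom this

end field

end K520.Prod
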