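import Groth.Agent.AbVar.K520.HomFg
import Groth.Agent.S12042

/-!
# `Hom_k(A, B)` is finitely generated, any field `k`
-/

set_option autoImplicit false
universe u

open CategoryTheory MonoidalCategory CartesianMonoidalCategory MonObj AlgebraicGeometry

namespace K520.HomFin

/-- `Hom_k(A, B)` is a finitely generated abelian group. -/
theorem finite_hom (k : Type u) [Field k] (A B : Over (Spec (CommRingCat.of k)))
    [GrpObj A] [IsCommMonObj A] [IsProper A.hom] [GeometricallyIntegral A.hom]
    [GrpObj B] [IsCommMonObj B] [IsProper B.hom] [GeometricallyIntegral B.hom] : Module.Finite ℤ (EndAV.Hom A B) := by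
  refine K520.HomFg.finite k (AlgebraicClosure k) (fun A' B' _ _ _ _ _ _ _ _ => ?_) A B
  obtain ⟨r, hr⟩ := K520.HomFg.exists_dim A'
  obtain ⟨s, -, hs⟩ := (Groth.Agent.S12042.result (AlgebraicClosure k) A' B' r hr).1
  exact ⟨s, hs⟩

/-- `Hom_k(A, B)` is a free abelian group. -/
theorem free_hom (k : Type u) [Field k] (A B : Over (Spec (CommRingCat.of k)))
    [GrpObj A] [IsCommMonObj A] [IsProper A.hom] [GeometricallyIntegral A.hom]
    [GrpObj B] [IsCommMonObj B] [IsProper B.hom] [GeometricallyIntegral B.hom] : Module.Free ℤ (EndAV.Hom A B) := by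
  have := finite_hom k A B
  have : Module.IsTorsionFree ℤ (EndAV.Hom A B) := K520.HomFg.isTorsionFree_hom
  exact Module.free_of_finite_type_torsion_free'

end K520.HomFin
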