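import Groth.Prelude.Def_Frob
import Groth.Prelude.Def_EndRing
import Mathlib.FieldTheory.Finite.Basic
import Mathlib.AlgebraicGeometry.Pullbacks
import Mathlib.CategoryTheory.Monoidal.Cartesian.Over
import Mathlib.CategoryTheory.Monoidal.Cartesian.CommGrp_
import Mathlib.Algebra.Polynomial.Eval.Coeff

/-!
# The `q`-Frobenius of schemes over a finite field

* `K520.Frob.IsFrob q π`: `π : X ⟶ X` is the identity on points and `s ↦ s ^ q` on sections (with `appLE`, as in the
  rows).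
* `IsFrob.comm`: naturality, `IsFrob.unique`: uniqueness.
* `K520.Frob.exists_frob`: every scheme over a finite field `k` has a `card k`-Frobenius over `k`.
* `isMonHom_of_isFrob`: it is a homomorphism on a group scheme.
* `eval₂_comp`: polynomials in Frobenius commute with homomorphisms; `eval₂_eq_zero_of_epi`, `eval₂_eq_zero_of_mono`.
-/

set_option autoImplicit false
universe u v

open CategoryTheory AlgebraicGeometry Limits MonoidalCategory CartesianMonoidalCategory MonObj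

namespace K520.Frob

/-- `π` is the identity on points and the `q`-th power map on sections. -/
structure IsFrob (q : ℕ) {X : Scheme.{u}} (π : X ⟶ X) : Prop where
  base : π.base = 𝟙 _
  le : ∀ U : X.Opens, U ≤ π ⁻¹ᵁ U
  app : ∀ (U : X.Opens) (s : Γ(X, U)), (π.appLE U U (le U)).hom s = s ^ q

theorem preimage_eq {X : Scheme.{u}} {π : X ⟶ X} (h : π.base = 𝟙 _) (U : X.Opens) : π ⁻¹ᵁ U = U := by
  ext x
  change π.base x ∈ U ↔ x ∈ U
  rw [h]
  rfl

theorem hom_ext {X Y : Scheme.{u}} {f g : X ⟶ Y} (hb : f.base = g.base)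
    (h : ∀ (U : Y.Opens) (h1 : g ⁻¹ᵁ U ≤ f ⁻¹ᵁ U), f.appLE U (g ⁻¹ᵁ U) h1 = g.app U) : f = g := by
  refine Scheme.Hom.ext hb fun U => ?_
  have e : g ⁻¹ᵁ U = f ⁻¹ᵁ U := by
    ext x
    change g.base x ∈ U ↔ f.base x ∈ U
    rw [hb]
  exact h U e.le

theorem hom_ext_appLE {X Y : Scheme.{u}} {f g : X ⟶ Y} (hb : f.base = g.base)
    (h : ∀ (U : Y.Opens) (V : X.Opens) (h1 : V ≤ f ⁻¹ᵁ U) (h2 : V ≤ g ⁻¹ᵁ U), f.appLE U V h1 = g.appLE U V h2) :
    f = g := by
  refine hom_ext hb fun U h1 => ?_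
  rw [h U _ h1 le_rfl, Scheme.Hom.appLE_eq_app]

variable {q : ℕ}

theorem IsFrob.appLE {X : Scheme.{u}} {π : X ⟶ X} (h : IsFrob q π) (U V : X.Opens) (hUV : V ≤ π ⁻¹ᵁ U)
    (hVU : V ≤ U) (s : Γ(X, U)) :
    (π.appLE U V hUV).hom s = (X.presheaf.map (homOfLE hVU).op).hom s ^ q := by
  have h1 : π.appLE U V hUV = π.appLE U U (h.le U) ≫ X.presheaf.map (homOfLE hVU).op :=
    (Scheme.Hom.appLE_map _ _ _).symm
  rw [h1, CommRingCat.hom_comp, RingHom.comp_apply, h.app, map_pow]

/-- Frobenius is natural. -/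
theorem IsFrob.comm {X Y : Scheme.{u}} {π : X ⟶ X} {ρ : Y ⟶ Y} (hπ : IsFrob q π) (hρ : IsFrob q ρ)
    (f : X ⟶ Y) : π ≫ f = f ≫ ρ := by
  refine hom_ext_appLE ?_ fun U V h1 h2 => ?_
  · rw [Scheme.Hom.comp_base, Scheme.Hom.comp_base, hπ.base, hρ.base, Category.id_comp, Category.comp_id]
  · have e : (f ≫ ρ) ⁻¹ᵁ U = f ⁻¹ᵁ U := by
      rw [Scheme.Hom.comp_preimage, preimage_eq hρ.base]
    have hV : V ≤ f ⁻¹ᵁ U := h2.trans e.le
    have a1 : (π ≫ f).appLE U V h1 = f.appLE U V hV ≫ π.appLE V V (hπ.le V) :=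
      (Scheme.Hom.appLE_comp_appLE _ _ _ _ _ _ _).symm
    have a2 : (f ≫ ρ).appLE U V h2 = ρ.appLE U U (hρ.le U) ≫ f.appLE U V hV :=
      (Scheme.Hom.appLE_comp_appLE _ _ _ _ _ _ _).symm
    rw [a1, a2]
    ext s
    simp only [CommRingCat.hom_comp, RingHom.comp_apply]
    rw [hπ.app, hρ.app, map_pow]

theorem IsFrob.unique {X : Scheme.{u}} {π ρ : X ⟶ X} (hπ : IsFrob q π) (hρ : IsFrob q ρ) : π = ρ := by
  have := hπ.comm hρ (𝟙 X)
  rwa [Category.comp_id, Category.id_comp] at this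

theorem isFrob_id (X : Scheme.{u}) : IsFrob 1 (𝟙 X) where
  base := rfl
  le U := le_rfl
  app U s := by
    rw [pow_one]
    have : (𝟙 X : X ⟶ X).appLE U U le_rfl = 𝟙 _ :=
      (Scheme.Hom.appLE_eq_app (𝟙 X) (U := U)).trans (Scheme.Hom.id_app U)
    rw [this]; rfl

theorem IsFrob.comp {X : Scheme.{u}} {π ρ : X ⟶ X} {r : ℕ} (hπ : IsFrob q π) (hρ : IsFrob r ρ) :
    IsFrob (q * r) (π ≫ ρ) where
  base := by rw [Scheme.Hom.comp_base, hπ.base, hρ.base, Category.id_comp]
  le U := by rw [Scheme.Hom.comp_preimage, preimage_eq hρ.base, preimage_eq hπ.base]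
  app U s := by
    have a1 : ∀ h, (π ≫ ρ).appLE U U h = ρ.appLE U U (hρ.le U) ≫ π.appLE U U (hπ.le U) := fun h =>
      (Scheme.Hom.appLE_comp_appLE _ _ _ _ _ _ _).symm
    rw [a1]
    simp only [CommRingCat.hom_comp, RingHom.comp_apply]
    rw [hρ.app, hπ.app, ← pow_mul, mul_comm]

theorem isFrob_frob (X : Scheme.{u}) (p : ℕ) [Fact p.Prime] [FrobSch.IsCharP X p] : IsFrob p (FrobSch.frob X p) where
  base := rfl
  le U := le_rfl
  app U s := by
    change (((FrobSch.frob X p).app U) ≫ X.presheaf.map (𝟙 _)).hom s = s ^ p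
    rw [X.presheaf.map_id, Category.comp_id]
    rfl

theorem exists_isFrob_pow (X : Scheme.{u}) (p : ℕ) [Fact p.Prime] [FrobSch.IsCharP X p] (n : ℕ) :
    ∃ π : X ⟶ X, IsFrob (p ^ n) π := by
  induction n with
  | zero => exact ⟨𝟙 X, by rw [pow_zero]; exact isFrob_id X⟩
  | succ n ih =>
    obtain ⟨π, hπ⟩ := ih
    exact ⟨π ≫ FrobSch.frob X p, by rw [pow_succ]; exact hπ.comp (isFrob_frob X p)⟩

section overField

variable (k : Type u) [Field k] [Finite k]

/-- The `card k`-Frobenius of `Spec k` is the identity. -/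
theorem isFrob_card_id : IsFrob (Nat.card k) (𝟙 (Spec (CommRingCat.of k))) := by
  have := Fintype.ofFinite k
  refine ⟨rfl, fun U => le_rfl, fun U s => ?_⟩
  have h1 : (𝟙 (Spec (CommRingCat.of k)) : Spec (CommRingCat.of k) ⟶ _).appLE U U le_rfl = 𝟙 _ :=
    (Scheme.Hom.appLE_eq_app (𝟙 _) (U := U)).trans (Scheme.Hom.id_app U)
  rw [h1]
  change s = s ^ Nat.card k
  -- `U` is empty or everything
  rcases eq_or_ne U ⊥ with rfl | hU
  · exact Subsingleton.elim _ _
  · have hU' : U = ⊤ := by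
      obtain ⟨x, hx⟩ := (TopologicalSpace.Opens.ne_bot_iff_nonempty U).1 hU
      ext y
      simp only [TopologicalSpace.Opens.coe_top, Set.mem_univ, iff_true]
      have : y = x := Subsingleton.elim _ _
      rw [this]; exact hx
    subst hU'
    have e := (Scheme.ΓSpecIso (CommRingCat.of k)).commRingCatIsoToRingEquiv
    apply e.injective
    rw [map_pow, Nat.card_eq_fintype_card]
    exact (FiniteField.pow_card (K := k) (e s)).symm

/-- Every scheme over a finite field has a `card k`-Frobenius over `k`. -/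
theorem exists_isFrob (X : Over (Spec (CommRingCat.of k))) : ∃ π : X ⟶ X, IsFrob (Nat.card k) π.left := by
  have := Fintype.ofFinite k
  obtain ⟨p, hp⟩ := CharP.exists k
  haveI := hp
  obtain ⟨n, hprime, hcard⟩ := FiniteField.card k p
  haveI : Fact p.Prime := ⟨hprime⟩
  haveI : FrobSch.IsCharP X.left p := FrobSch.IsCharP.of_hom X.hom p
  obtain ⟨π, hπ⟩ := exists_isFrob_pow X.left p n
  rw [← hcard, ← Nat.card_eq_fintype_card] at hπ
  refine ⟨Over.homMk π ?_, hπ⟩
  have := hπ.comm (isFrob_card_id k) X.hom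
  rw [this, Category.comp_id]

/-- The Frobenius of a scheme over a finite field. -/
noncomputable def fr (X : Over (Spec (CommRingCat.of k))) : X ⟶ X := (exists_isFrob k X).choose

theorem isFrob_fr (X : Over (Spec (CommRingCat.of k))) : IsFrob (Nat.card k) (fr k X).left :=
  (exists_isFrob k X).choose_spec

theorem eq_fr (X : Over (Spec (CommRingCat.of k))) (π : X ⟶ X) (h : IsFrob (Nat.card k) π.left) : π = fr k X :=
  Over.OverMorphism.ext (h.unique (isFrob_fr k X))

@[reassoc]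
theorem fr_comm {X Y : Over (Spec (CommRingCat.of k))} (f : X ⟶ Y) : fr k X ≫ f = f ≫ fr k Y :=
  Over.OverMorphism.ext ((isFrob_fr k X).comm (isFrob_fr k Y) f.left)

theorem fr_unit : fr k (𝟙_ (Over (Spec (CommRingCat.of k)))) = 𝟙 _ :=
  CartesianMonoidalCategory.toUnit_unique _ _

theorem fr_tensor (X Y : Over (Spec (CommRingCat.of k))) : fr k (X ⊗ Y) = fr k X ⊗ₘ fr k Y := by
  refine CartesianMonoidalCategory.hom_ext _ _ ?_ ?_
  · rw [fr_comm, tensorHom_fst]
  · rw [fr_comm, tensorHom_snd]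

instance isMonHom_fr (G : Over (Spec (CommRingCat.of k))) [GrpObj G] : IsMonHom (fr k G) where
  one_hom := by rw [← fr_comm, fr_unit, Category.id_comp]
  mul_hom := by rw [← fr_comm, fr_tensor]

end overField

/-! ### polynomials in an endomorphism -/

section poly

variable {C : Type u} [Category.{v} C] [Preadditive C]

theorem eval₂_mul_comp {X Y : C} (φ : X ⟶ Y) (a : End X) (b : End Y) (h : (a : X ⟶ X) ≫ φ = φ ≫ (b : Y ⟶ Y))
    (P : Polynomial ℤ) :
    ((Polynomial.eval₂ (Int.castRingHom (End X)) a P : End X) : X ⟶ X) ≫ φ =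
      φ ≫ ((Polynomial.eval₂ (Int.castRingHom (End Y)) b P : End Y) : Y ⟶ Y) := by
  have hpow : ∀ n : ℕ, ((a ^ n : End X) : X ⟶ X) ≫ φ = φ ≫ ((b ^ n : End Y) : Y ⟶ Y) := by
    intro n
    induction n with
    | zero => exact (Category.id_comp φ).trans (Category.comp_id φ).symm
    | succ n ih =>
      rw [pow_succ, pow_succ]
      change (a ≫ (a ^ n : End X) : X ⟶ X) ≫ φ = φ ≫ (b ≫ (b ^ n : End Y) : Y ⟶ Y)
      rw [Category.assoc, ih, ← Category.assoc, h, Category.assoc]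
  induction P using Polynomial.induction_on' with
  | add p q hp hq =>
    rw [Polynomial.eval₂_add, Polynomial.eval₂_add]
    exact (Preadditive.add_comp _ _ _ _ _ _).trans
      ((congrArg₂ (· + ·) hp hq).trans (Preadditive.comp_add _ _ _ _ _ _).symm)
  | monomial n c =>
    rw [Polynomial.eval₂_monomial, Polynomial.eval₂_monomial, eq_intCast, eq_intCast,
      ← zsmul_eq_mul, ← zsmul_eq_mul]
    change (c • (a ^ n : End X) : X ⟶ X) ≫ φ = φ ≫ (c • (b ^ n : End Y) : Y ⟶ Y)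
    rw [Preadditive.zsmul_comp, Preadditive.comp_zsmul, hpow]

end poly

end K520.Frob
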