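import Groth.Agent.S3030
import Groth.Agent.S3034
import Groth.Agent.S3280
import Groth.Agent.S0114
import Groth.Agent.Etrest.ProperOver
import Groth.Agent.AbVar.K520.Prod

/-!
# Quotients of abelian varieties by closed subgroup schemes, images of homomorphisms

* `exists_quotient`: `A/H` for a closed subgroup scheme `H` of an abelian variety over a field.
* `exists_desc`: homomorphisms killing the kernel factor.
* `exists_image`: a homomorphism of abelian varieties is a faithfully flat homomorphism onto an abelian variety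
  followed by a closed immersion.
-/

set_option autoImplicit false
universe u v

open CategoryTheory AlgebraicGeometry Limits MonoidalCategory CartesianMonoidalCategory MonObj

namespace K520.Quot

variable {k : Type u} [Field k]

/-- A faithfully flat image of an abelian variety is an abelian variety. -/
theorem isAbVar_of_flat_surjective {A Q : Over (Spec (CommRingCat.of k))} [GrpObj A] [GrpObj Q]
    [IsProper A.hom] [GeometricallyIntegral A.hom] (q : A ⟶ Q) [Flat q.left] [Surjective q.left]
    [LocallyOfFinitePresentation q.left] [IsSeparated Q.hom] :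
    IsProper Q.hom ∧ GeometricallyIntegral Q.hom ∧ IsCommMonObj Q := by
  have e : q.left ≫ Q.hom = A.hom := Over.w q
  have h1 : LocallyOfFinitePresentation (q.left ≫ Q.hom) := by rw [e]; infer_instance
  have h2 : LocallyOfFinitePresentation Q.hom := Groth.Agent.S0114.result q.left Q.hom
  have h3 : IsProper (q.left ≫ Q.hom) := by rw [e]; infer_instance
  have h4 : IsProper Q.hom := Groth.Agent.Etrest.ProperOver.isProper_of_surjective' q.left Q.hom
  have h5 : GeometricallyIntegral (q.left ≫ Q.hom) := by rw [e]; infer_instance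
  have h6 : GeometricallyIntegral Q.hom := K520.Prod.geometricallyIntegral_of_flat_surjective q.left Q.hom
  exact ⟨h4, h6, isCommMonObj_of_isProper_of_geometricallyIntegral Q⟩

/-- Points killed by `q` come from the kernel. -/
theorem exists_factor {S : Scheme.{u}} {H A Q : Over S} [GrpObj Q] {h : H ⟶ A} {q : A ⟶ Q}
    (hK : AlgGrp.IsKernel h q) {T : Over S} (x : T ⟶ A) (hx : x ≫ q = 1) : ∃ y : T ⟶ H, y ≫ h = x := by
  refine ⟨hK.lift x (toUnit T) ?_, hK.lift_fst _ _ _⟩
  rw [hx, MonObj.one_eq_one]
  exact (MonObj.comp_one (toUnit T)).symm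

theorem kernel_comp {S : Scheme.{u}} {H A Q : Over S} [GrpObj Q] {h : H ⟶ A} {q : A ⟶ Q}
    (hK : AlgGrp.IsKernel h q) : h ≫ q = 1 := by
  rw [hK.w, MonObj.one_eq_one]
  exact MonObj.comp_one (toUnit H)

/-- The quotient of an abelian variety by a closed subgroup scheme. -/
theorem exists_quotient (A H : Over (Spec (CommRingCat.of k))) [GrpObj A] [IsCommMonObj A] [IsProper A.hom]
    [GeometricallyIntegral A.hom] [GrpObj H] (h : H ⟶ A) [IsMonHom h] [IsClosedImmersion h.left] :
    ∃ (Q : Over (Spec (CommRingCat.of k))) (_ : GrpObj Q) (_ : IsCommMonObj Q) (_ : IsProper Q.hom)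
      (_ : GeometricallyIntegral Q.hom) (q : EndAV.Hom A Q), Flat q.toHom.left ∧ Surjective q.toHom.left ∧
      LocallyOfFinitePresentation q.toHom.left ∧ AlgGrp.IsKernel h q.toHom := by
  have hA : LocallyOfFiniteType A.hom := inferInstance
  have e : h.left ≫ A.hom = H.hom := Over.w h
  have hH : LocallyOfFiniteType H.hom := by rw [← e]; infer_instance
  have hm : Mono h := by
    have : Mono h.left := inferInstance
    exact Over.mono_of_mono_left h
  have hN : AlgGrp.IsNormalHom h := by
    intro T g n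
    refine ⟨n, ?_⟩
    rw [_root_.mul_comm g, _root_.mul_assoc, mul_inv_cancel, _root_.mul_one]
  obtain ⟨Q, hQ, p, hp, h1, h2, h3, h4, h5, h6, h7⟩ := Groth.Agent.S3030.result k H A h hN
  obtain ⟨h8, h9, h10⟩ := isAbVar_of_flat_surjective p
  exact ⟨Q, hQ, h10, h8, h9, EndAV.Hom.of p, h1, h2, h3, h4⟩

/-- Homomorphisms trivial on the kernel of a faithfully flat homomorphism factor. -/
theorem exists_desc {A Q B N : Over (Spec (CommRingCat.of k))} [GrpObj A] [IsCommMonObj A] [IsProper A.hom]
    [GrpObj Q] [IsCommMonObj Q] [IsProper Q.hom] [GrpObj B] [IsCommMonObj B] [IsProper B.hom]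
    (q : EndAV.Hom A Q) [Flat q.toHom.left] [Surjective q.toHom.left] (i : N ⟶ A) (hK : AlgGrp.IsKernel i q.toHom)
    (φ : EndAV.Hom A B) (hφ : i ≫ φ.toHom = 1) : ∃ ψ : EndAV.Hom Q B, q ≫ ψ = φ := by
  obtain ⟨ψ, h1, h2, -⟩ := Groth.Agent.S3280.result k A N Q B q.toHom i hK φ.toHom
    (by rw [hφ, MonObj.one_eq_one]; exact (MonObj.comp_one (toUnit N)).symm)
  exact ⟨EndAV.Hom.of ψ, EndAV.Hom.ext h2⟩

/-- A version of `exists_desc` without mentioning the kernel: enough that `φ` kills every point killed by `q`. -/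
theorem exists_desc' {A Q B : Over (Spec (CommRingCat.of k))} [GrpObj A] [IsCommMonObj A] [IsProper A.hom]
    [GrpObj Q] [IsCommMonObj Q] [IsProper Q.hom] [GrpObj B] [IsCommMonObj B] [IsProper B.hom]
    (q : EndAV.Hom A Q) [Flat q.toHom.left] [Surjective q.toHom.left]
    (φ : EndAV.Hom A B)
    (hφ : ∀ (T : Over (Spec (CommRingCat.of k))) (x : T ⟶ A), x ≫ q.toHom = 1 → x ≫ φ.toHom = 1) :
    ∃ ψ : EndAV.Hom Q B, q ≫ ψ = φ := by
  have hK : AlgGrp.IsKernel (pullback.fst q.toHom η[Q]) q.toHom := by
    have := IsPullback.of_hasPullback q.toHom (η[Q])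
    have e : pullback.snd q.toHom η[Q] = toUnit _ := toUnit_unique _ _
    rw [e] at this
    exact this
  exact exists_desc q _ hK φ (hφ _ _ (kernel_comp hK))

/-- Faithfully flat homomorphisms can be cancelled on the left (as morphisms). -/
theorem cancel_left {A Q T : Over (Spec (CommRingCat.of k))} [IsProper A.hom] [IsSeparated Q.hom] (q : A ⟶ Q) [Flat q.left]
    [Surjective q.left] {a b : Q ⟶ T} (h : q ≫ a = q ≫ b) : a = b := by
  have e : q.left ≫ Q.hom = A.hom := Over.w q
  have : QuasiCompact (q.left ≫ Q.hom) := by rw [e]; infer_instance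
  have : QuasiCompact q.left := QuasiCompact.of_comp q.left Q.hom
  have : Epi q.left := Flat.epi_of_flat_of_surjective q.left
  apply Over.OverMorphism.ext
  rw [← cancel_epi q.left]
  exact congrArg Over.Hom.left h

theorem cancel_left_hom {A Q B : Over (Spec (CommRingCat.of k))} [GrpObj A] [IsCommMonObj A] [IsProper A.hom]
    [GrpObj Q] [IsCommMonObj Q] [IsSeparated Q.hom] [GrpObj B] [IsCommMonObj B]
    (q : EndAV.Hom A Q) [Flat q.toHom.left] [Surjective q.toHom.left] {a b : EndAV.Hom Q B} (h : q ≫ a = q ≫ b) :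
    a = b :=
  EndAV.Hom.ext (cancel_left q.toHom (congrArg EndAV.Hom.toHom h))

/-- Monomorphisms can be cancelled on the right (as morphisms). -/
theorem cancel_right {A B T : Over (Spec (CommRingCat.of k))} (i : A ⟶ B) [Mono i.left] {a b : T ⟶ A}
    (h : a ≫ i = b ≫ i) : a = b := by
  apply Over.OverMorphism.ext
  rw [← cancel_mono i.left]
  exact congrArg Over.Hom.left h

theorem cancel_right_hom {A B T : Over (Spec (CommRingCat.of k))} [GrpObj A] [IsCommMonObj A]
    [GrpObj B] [IsCommMonObj B] [GrpObj T] [IsCommMonObj T]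
    (i : EndAV.Hom A B) [Mono i.toHom.left] {a b : EndAV.Hom T A} (h : a ≫ i = b ≫ i) :
    a = b :=
  EndAV.Hom.ext (cancel_right i.toHom (congrArg EndAV.Hom.toHom h))

/-- The image of a homomorphism of abelian varieties. -/
theorem exists_image {A B : Over (Spec (CommRingCat.of k))} [GrpObj A] [IsCommMonObj A] [IsProper A.hom]
    [GeometricallyIntegral A.hom] [GrpObj B] [IsCommMonObj B] [IsProper B.hom] (u : EndAV.Hom A B) :
    ∃ (C : Over (Spec (CommRingCat.of k))) (_ : GrpObj C) (_ : IsCommMonObj C) (_ : IsProper C.hom)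
      (_ : GeometricallyIntegral C.hom) (p : EndAV.Hom A C) (i : EndAV.Hom C B), p ≫ i = u ∧
      Flat p.toHom.left ∧ Surjective p.toHom.left ∧ LocallyOfFinitePresentation p.toHom.left ∧
      IsClosedImmersion i.toHom.left := by
  have e : u.toHom.left ≫ B.hom = A.hom := Over.w u.toHom
  have : QuasiCompact (u.toHom.left ≫ B.hom) := by rw [e]; infer_instance
  have : QuasiCompact u.toHom.left := QuasiCompact.of_comp u.toHom.left B.hom
  have hfl : Flat (Y := Spec (CommRingCat.of k))
      (pullback.snd u.toHom.left (η[B] : 𝟙_ (Over (Spec (CommRingCat.of k))) ⟶ B).left) := inferInstance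
  obtain ⟨C, hC, p, i, hp, hi, h1, h2, h3, h4, h5⟩ := Groth.Agent.S3034.result k A B u.toHom hfl
  have h6 : IsSeparated C.hom := by
    have e' : i.left ≫ B.hom = C.hom := Over.w i
    rw [← e']
    infer_instance
  obtain ⟨h8, h9, h10⟩ := isAbVar_of_flat_surjective p
  exact ⟨C, hC, h10, h8, h9, EndAV.Hom.of p, EndAV.Hom.of i, EndAV.Hom.ext h1, h2, h3, h4, h5⟩

end K520.Quot
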