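import Groth.Prelude.Def_AbDual
import Groth.Prelude.Def_SGA7a
import Groth.Agent.Grpsch.AbBC
import Groth.Agent.FormalA.AdicFin
import Mathlib.RingTheory.AdicCompletion.Functoriality
import Mathlib.NumberTheory.Padics.PadicIntegers
import Mathlib.AlgebraicGeometry.ZariskisMainTheorem
import Mathlib.FieldTheory.IntermediateField.Adjoin.Basic
import Mathlib.RingTheory.Unramified.LocalStructure

/-!
# Finiteness of Tate modules

* `finite_of_finite_torsPts`: `T_l(A)(T)` is a finite `ℤ_l`-module if `A[l](T)` is finite.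
* `finite_pts_of_etale`: finitely many `Ω`-points in the kernel of `[n]`, `n` invertible in the field.
-/

set_option autoImplicit false
universe u v

open CategoryTheory AlgebraicGeometry Limits MonoidalCategory CartesianMonoidalCategory MonObj

namespace K520.TateFin

section general

variable {S : Scheme.{u}} {A : Over S} [GrpObj A] [IsCommMonObj A] {l : ℕ} {T : Over S}

theorem nsmul_apply (x : AbDual.TateMod A l T) (m n : ℕ) :
    ((m • x : AbDual.TateMod A l T) : ℕ → Additive (T ⟶ A)) n = m • (x : ℕ → Additive (T ⟶ A)) n := rfl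

theorem pow_smul_add (x : AbDual.TateMod A l T) (m n : ℕ) :
    (l ^ n) • (x : ℕ → Additive (T ⟶ A)) (m + n) = (x : ℕ → Additive (T ⟶ A)) m := by
  induction n with
  | zero => rw [pow_zero, one_smul, add_zero]
  | succ n ih => rw [pow_succ, mul_smul, ← add_assoc, x.compat, ih]

/-- an element of the Tate module with trivial `n`-th component is divisible by `l ^ n` -/
theorem exists_eq_pow_smul (x : AbDual.TateMod A l T) (n : ℕ) (h : (x : ℕ → Additive (T ⟶ A)) n = 0) :
    ∃ y : AbDual.TateMod A l T, (l ^ n) • y = x := by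
  refine ⟨⟨fun m => (x : ℕ → Additive (T ⟶ A)) (m + n), fun m => ?_, fun m => ?_⟩, ?_⟩
  · change (l ^ m) • (x : ℕ → Additive (T ⟶ A)) (m + n) = 0
    rw [add_comm m n, pow_smul_add x n m, h]
  · change l • (x : ℕ → Additive (T ⟶ A)) (m + 1 + n) = (x : ℕ → Additive (T ⟶ A)) (m + n)
    rw [add_right_comm]; exact x.compat _
  · apply AbDual.TateMod.ext
    intro m
    exact pow_smul_add x m n

variable [hl : Fact l.Prime]

theorem cast_smul (m : ℕ) (x : AbDual.TateMod A l T) : ((m : ℤ_[l]) • x : AbDual.TateMod A l T) = m • x :=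
  Nat.cast_smul_eq_nsmul ℤ_[l] m x

open IsLocalRing in
theorem mem_max_pow_smul_top (x : AbDual.TateMod A l T) (n : ℕ) :
    x ∈ ((maximalIdeal ℤ_[l]) ^ n • (⊤ : Submodule ℤ_[l] (AbDual.TateMod A l T))) ↔
      ∃ y : AbDual.TateMod A l T, (l ^ n) • y = x := by
  rw [PadicInt.maximalIdeal_eq_span_p, Ideal.span_singleton_pow, Submodule.ideal_span_singleton_smul,
    Submodule.mem_smul_pointwise_iff_exists]
  constructor
  · rintro ⟨y, -, hy⟩
    refine ⟨y, ?_⟩
    rw [← hy, ← cast_smul, Nat.cast_pow]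
  · rintro ⟨y, hy⟩
    refine ⟨y, trivial, ?_⟩
    rw [← hy, ← cast_smul, Nat.cast_pow]

open IsLocalRing in
theorem isHausdorff : IsHausdorff (maximalIdeal ℤ_[l]) (AbDual.TateMod A l T) := by
  refine ⟨fun x hx => AbDual.TateMod.ext fun n => ?_⟩
  have h1 := hx n
  rw [SModEq.zero, mem_max_pow_smul_top] at h1
  obtain ⟨y, hy⟩ := h1
  rw [← hy, nsmul_apply, y.torsion n]
  rfl

/-- `T_l(A)(T)` is a finite `ℤ_l`-module if `A[l](T)` is finite. -/
theorem finite_of_finite_tors (h : {x : T ⟶ A | x ^ l = 1}.Finite) :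
    Module.Finite ℤ_[l] (AbDual.TateMod A l T) := by
  classical
  have hH : IsHausdorff (IsLocalRing.maximalIdeal ℤ_[l]) (AbDual.TateMod A l T) := isHausdorff
  -- the first components form a finite set
  have hfin : (Set.range fun x : AbDual.TateMod A l T => (x : ℕ → Additive (T ⟶ A)) 1).Finite := by
    refine (h.image Additive.ofMul).subset ?_
    rintro _ ⟨x, rfl⟩
    refine ⟨((x : ℕ → Additive (T ⟶ A)) 1).toMul, ?_, rfl⟩
    have := x.torsion 1
    rw [pow_one] at this
    exact this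
  have : Finite (Set.range fun x : AbDual.TateMod A l T => (x : ℕ → Additive (T ⟶ A)) 1) := hfin
  obtain ⟨r, ⟨e⟩⟩ := Finite.exists_equiv_fin (Set.range fun x : AbDual.TateMod A l T => (x : ℕ → Additive (T ⟶ A)) 1)
  let f : Fin r → AbDual.TateMod A l T := fun i => (e.symm i).2.choose
  have hf : ∀ i, (f i : ℕ → Additive (T ⟶ A)) 1 = (e.symm i).1 := fun i => (e.symm i).2.choose_spec
  let φ : (Fin r → ℤ_[l]) →ₗ[ℤ_[l]] AbDual.TateMod A l T := Fintype.linearCombination ℤ_[l] f
  have := Groth.Agent.FormalA.AdicFin.isPrecomplete_pi (IsLocalRing.maximalIdeal ℤ_[l]) (Fin r)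
  refine Module.Finite.of_surjective φ (surjective_of_mkQ_comp_surjective (I := IsLocalRing.maximalIdeal ℤ_[l]) ?_)
  intro z
  obtain ⟨x, rfl⟩ := Submodule.mkQ_surjective _ z
  let i : Fin r := e ⟨_, ⟨x, rfl⟩⟩
  refine ⟨Pi.single i 1, ?_⟩
  rw [LinearMap.comp_apply]
  have h1 : φ (Pi.single i 1) = f i := by
    simp [φ]
  rw [h1]
  symm
  rw [← sub_eq_zero, ← map_sub, Submodule.mkQ_apply, Submodule.Quotient.mk_eq_zero]
  have h2 := (mem_max_pow_smul_top (x - f i) 1).2 (exists_eq_pow_smul _ 1 (by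
    change (x : ℕ → Additive (T ⟶ A)) 1 - (f i : ℕ → Additive (T ⟶ A)) 1 = 0
    rw [hf, Equiv.symm_apply_apply, sub_self]))
  rwa [pow_one] at h2

end general

section field

variable {k : Type u} [Field k] (Ω : Type u) [Field Ω] [Algebra k Ω]

lemma locallyQuasiFinite_of_etale {X Y : Scheme.{u}} (f : X ⟶ Y) [AlgebraicGeometry.Etale f] :
    LocallyQuasiFinite f where
  quasiFinite_appLE {U} hU {V} hV e := by
    have h := HasRingHomProperty.appLE @AlgebraicGeometry.Etale f ‹_› ⟨U, hU⟩ ⟨V, hV⟩ e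
    algebraize [(f.appLE U V e).hom]
    change Algebra.QuasiFinite Γ(Y, U) Γ(X, V)
    infer_instance

/-- finitely many `Ω`-points of a finite `k`-scheme -/
theorem finite_pts_of_isFinite (W : Over (Spec (CommRingCat.of k))) [IsFinite W.hom] :
    Finite (SGA7.pt (K := k) Ω ⟶ W) := by
  have : IsAffine W.left := isAffine_of_isAffineHom W.hom
  let ρ : k →+* Γ(W.left, ⊤) := W.hom.appTop.hom.comp (Scheme.ΓSpecIso (CommRingCat.of k)).inv.hom
  letI : Algebra k Γ(W.left, ⊤) := ρ.toAlgebra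
  have hfin : Module.Finite k Γ(W.left, ⊤) := by
    have h1 : W.hom.appTop.hom.Finite := IsFinite.finite_app W.hom ⊤ (isAffineOpen_top _)
    have h2 : (Scheme.ΓSpecIso (CommRingCat.of k)).inv.hom.Finite :=
      RingHom.Finite.of_surjective _ (ConcreteCategory.bijective_of_isIso (Scheme.ΓSpecIso (CommRingCat.of k)).inv).2
    exact h1.comp h2
  let F : (SGA7.pt (K := k) Ω ⟶ W) → (Γ(W.left, ⊤) →ₐ[k] Ω) := fun x =>
    { (Scheme.ΓSpecIso (CommRingCat.of Ω)).hom.hom.comp x.left.appTop.hom with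
      commutes' := fun r => by
        have e : x.left ≫ W.hom = Spec.map (CommRingCat.ofHom (algebraMap k Ω)) := Over.w x
        have e1 : W.hom.appTop ≫ x.left.appTop = (Spec.map (CommRingCat.ofHom (algebraMap k Ω))).appTop := by
          rw [← Scheme.Hom.comp_appTop, e]
        have e2 : (Scheme.ΓSpecIso (CommRingCat.of k)).inv ≫ W.hom.appTop ≫ x.left.appTop ≫
            (Scheme.ΓSpecIso (CommRingCat.of Ω)).hom = CommRingCat.ofHom (algebraMap k Ω) := by
          rw [reassoc_of% e1, Iso.inv_comp_eq, Scheme.ΓSpecIso_naturality]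
        exact congrArg (fun φ : CommRingCat.of k ⟶ CommRingCat.of Ω => φ.hom r) e2 }
  have hF : Function.Injective F := by
    intro x y h
    apply Over.OverMorphism.ext
    apply ext_of_isAffine
    ext r
    apply (ConcreteCategory.bijective_of_isIso (Scheme.ΓSpecIso (CommRingCat.of Ω)).hom).1
    exact DFunLike.congr_fun h r
  exact Finite.of_injective F hF

/-- `A(Ω)` has finitely many elements killed by `n`, for `n` invertible in `k`. -/
theorem finite_tors (A : Over (Spec (CommRingCat.of k))) [GrpObj A] [IsProper A.hom]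
    [GeometricallyIntegral A.hom] {n : ℕ} (hn : (n : k) ≠ 0) :
    {x : SGA7.pt (K := k) Ω ⟶ A | x ^ n = 1}.Finite := by
  have het : Etale ((𝟙 A ^ (n : ℤ) : A ⟶ A)).left :=
    Groth.Agent.Grpsch.AbBC.etale_zpow A (d := n) (by simpa using hn)
  rw [zpow_natCast] at het
  have hpr : IsProper ((𝟙 A ^ n : A ⟶ A)).left := by
    have e : ((𝟙 A ^ n : A ⟶ A)).left ≫ A.hom = A.hom := Over.w _
    have : IsProper (((𝟙 A ^ n : A ⟶ A)).left ≫ A.hom) := by rw [e]; infer_instance
    exact IsProper.of_comp _ A.hom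
  have hfin : IsFinite ((𝟙 A ^ n : A ⟶ A)).left :=
    (IsFinite.iff_isProper_and_locallyQuasiFinite _).2 ⟨hpr, locallyQuasiFinite_of_etale _⟩
  let W : Over (Spec (CommRingCat.of k)) := Over.mk
    (pullback.snd ((𝟙 A ^ n : A ⟶ A)).left (η[A] : 𝟙_ (Over (Spec (CommRingCat.of k))) ⟶ A).left ≫
      (𝟙_ (Over (Spec (CommRingCat.of k)))).hom)
  have hW : IsFinite W.hom := by
    show IsFinite (pullback.snd ((𝟙 A ^ n : A ⟶ A)).left (η[A] : 𝟙_ (Over (Spec (CommRingCat.of k))) ⟶ A).left ≫ 𝟙 _)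
    infer_instance
  have hfinW := finite_pts_of_isFinite Ω W
  let i : W ⟶ A := Over.homMk (pullback.fst _ _) (by
    have h1 : pullback.fst ((𝟙 A ^ n : A ⟶ A)).left (η[A] : 𝟙_ (Over (Spec (CommRingCat.of k))) ⟶ A).left ≫ A.hom =
      pullback.fst ((𝟙 A ^ n : A ⟶ A)).left (η[A] : 𝟙_ (Over (Spec (CommRingCat.of k))) ⟶ A).left ≫
        ((𝟙 A ^ n : A ⟶ A)).left ≫ A.hom := by
          rw [Over.w (𝟙 A ^ n : A ⟶ A)]
    rw [h1, pullback.condition_assoc]
    rw [Over.w (η[A] : 𝟙_ (Over (Spec (CommRingCat.of k))) ⟶ A)]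
    rfl)
  refine (Set.finite_range fun w : SGA7.pt (K := k) Ω ⟶ W => w ≫ i).subset ?_
  intro x hx
  have hx' : x ≫ (𝟙 A ^ n : A ⟶ A) = 1 := by
    rw [MonObj.comp_pow, Category.comp_id]; exact hx
  have h2 : x.left ≫ ((𝟙 A ^ n : A ⟶ A)).left = (SGA7.pt (K := k) Ω).hom ≫
      (η[A] : 𝟙_ (Over (Spec (CommRingCat.of k))) ⟶ A).left := by
    have := congrArg Over.Hom.left hx'
    rw [Over.comp_left] at this
    rw [this, MonObj.one_eq_one]
    rfl
  refine ⟨Over.homMk (pullback.lift x.left (SGA7.pt (K := k) Ω).hom h2) ?_, ?_⟩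
  · change pullback.lift _ _ _ ≫ pullback.snd _ _ ≫ 𝟙 _ = _
    rw [pullback.lift_snd_assoc]
    exact Category.comp_id _
  · apply Over.OverMorphism.ext
    exact pullback.lift_fst _ _ _

/-- The Tate module of `Ω`-points of an abelian variety is a finite `ℤ_l`-module. -/
theorem finite_tateMod (A : Over (Spec (CommRingCat.of k))) [GrpObj A] [IsCommMonObj A] [IsProper A.hom]
    [GeometricallyIntegral A.hom] (l : ℕ) [Fact l.Prime] (hl : (l : k) ≠ 0) :
    Module.Finite ℤ_[l] (AbDual.TateMod A l (SGA7.pt (K := k) Ω)) :=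
  finite_of_finite_tors (finite_tors Ω A hl)

end field

end K520.TateFin
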