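import Mathlib.AlgebraicGeometry.Noetherian
import Mathlib.AlgebraicGeometry.Morphisms.ClosedImmersion
import Mathlib.AlgebraicGeometry.Morphisms.Separated
import Mathlib.CategoryTheory.Monoidal.Cartesian.Over
import Mathlib.CategoryTheory.Monoidal.Cartesian.Grp
import Mathlib.AlgebraicGeometry.Pullbacks
import Mathlib.AlgebraicGeometry.Limits
import Groth.Prelude.Def_AlgGrp

/-!
# Noetherian argument: finitely many homomorphisms have the same common kernel as all of them
-/

set_option autoImplicit false
universe u v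

open CategoryTheory AlgebraicGeometry Limits MonoidalCategory CartesianMonoidalCategory MonObj

namespace K520.Noeth

/-- Ideal sheaves on a Noetherian scheme satisfy the ascending chain condition. -/
theorem wellFoundedGT (X : Scheme.{u}) [IsNoetherian X] : WellFoundedGT X.IdealSheafData := by
  obtain ⟨s, hs, e⟩ := (isCompact_and_isOpen_iff_finite_and_eq_biUnion_affineOpens (X := X) (U := Set.univ)).1
    ⟨isCompact_univ, isOpen_univ⟩
  have := hs.to_subtype
  have : ∀ i : s, IsNoetherianRing Γ(X, i.1.1) := fun i => IsLocallyNoetherian.component_noetherian i.1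
  let F : X.IdealSheafData → ∀ i : s, (Ideal Γ(X, i.1.1))ᵒᵈ := fun I i => OrderDual.toDual (I.ideal i.1)
  have hF : Function.Injective F := by
    intro I J h
    refine Scheme.IdealSheafData.ext_of_iSup_eq_top (fun i : s => i.1) ?_ (fun i => congrFun h i)
    rw [eq_top_iff]
    intro x _
    have hx : x ∈ (Set.univ : Set X) := trivial
    rw [e] at hx
    simp only [Set.mem_iUnion] at hx
    obtain ⟨i, hi, hxi⟩ := hx
    exact TopologicalSpace.Opens.mem_iSup.2 ⟨⟨i, hi⟩, hxi⟩
  refine ⟨Subrelation.wf (r := InvImage (· < ·) F) ?_ (InvImage.wf _ wellFounded_lt)⟩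
  intro I J h
  have h1 : F I ≤ F J := fun i => h.le i.1
  exact lt_of_le_of_ne h1 (fun h2 => h.ne (hF h2).symm)

/-- In a family of ideal sheaves on a Noetherian scheme, finitely many already generate all. -/
theorem exists_fin_iSup {X : Scheme.{u}} [IsNoetherian X] {J : Type v} (K : J → X.IdealSheafData) :
    ∃ (n : ℕ) (s : Fin n → J), ∀ i, K i ≤ ⨆ j, K (s j) := by
  classical
  have := wellFoundedGT X
  obtain ⟨t, ht, hs⟩ := (CompleteLattice.WellFoundedGT.isSupFiniteCompact X.IdealSheafData) (Set.range K)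
  choose r hr using fun I : t => ht I.2
  refine ⟨t.card, fun j => r (t.equivFin.symm j), fun i => ?_⟩
  calc K i ≤ sSup (Set.range K) := le_sSup ⟨i, rfl⟩
    _ = t.sup id := hs
    _ ≤ _ := by
      refine Finset.sup_le fun I hI => ?_
      have : K (r (t.equivFin.symm (t.equivFin ⟨I, hI⟩))) = I := by
        rw [Equiv.symm_apply_apply]; exact hr ⟨I, hI⟩
      rw [id, ← this]
      exact le_iSup (fun j => K (r (t.equivFin.symm j))) _

variable {S : Scheme.{u}}

/-- The point `x : T ⟶ X` is killed by `f : X ⟶ A` iff the ideal of the kernel of `f` is contained in that of `x`. -/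
theorem comp_eq_one_iff_ker_le {X A : Over S} [GrpObj A] [IsSeparated A.hom] (f : X ⟶ A) (T : Over S)
    (x : T ⟶ X) :
    x ≫ f = 1 ↔ (pullback.fst f.left (η[A] : 𝟙_ (Over S) ⟶ A).left).ker ≤ x.left.ker := by
  have hη : IsClosedImmersion (η[A] : 𝟙_ (Over S) ⟶ A).left := by
    have h : (η[A] : 𝟙_ (Over S) ⟶ A).left ≫ A.hom = 𝟙 S := Over.w η[A]
    have : IsClosedImmersion ((η[A] : 𝟙_ (Over S) ⟶ A).left ≫ A.hom) := by rw [h]; exact inferInstanceAs (IsClosedImmersion (𝟙 S))
    exact IsClosedImmersion.of_comp _ A.hom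
  have hcl : IsClosedImmersion (pullback.fst f.left (η[A] : 𝟙_ (Over S) ⟶ A).left) := inferInstance
  constructor
  · intro h
    have h1 : x.left ≫ f.left = T.hom ≫ (η[A] : 𝟙_ (Over S) ⟶ A).left := by
      have := congrArg Over.Hom.left h
      rw [Over.comp_left] at this
      rw [this, MonObj.one_eq_one]
      rfl
    have h2 : pullback.lift x.left T.hom h1 ≫ pullback.fst _ _ = x.left := pullback.lift_fst _ _ _
    rw [← h2]
    exact Scheme.Hom.le_ker_comp _ _
  · intro h
    apply Over.OverMorphism.ext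
    rw [Over.comp_left, ← IsClosedImmersion.lift_fac (pullback.fst f.left (η[A] : 𝟙_ (Over S) ⟶ A).left) x.left h,
      Category.assoc, pullback.condition, ← Category.assoc]
    have h3 : (IsClosedImmersion.lift (pullback.fst f.left (η[A] : 𝟙_ (Over S) ⟶ A).left) x.left h) ≫
        pullback.snd f.left (η[A] : 𝟙_ (Over S) ⟶ A).left = T.hom := by
      have h4 : pullback.snd f.left (η[A] : 𝟙_ (Over S) ⟶ A).left =
          pullback.fst f.left (η[A] : 𝟙_ (Over S) ⟶ A).left ≫ X.hom := by
        rw [← Over.w f, ← Category.assoc, pullback.condition, Category.assoc]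
        have : (η[A] : 𝟙_ (Over S) ⟶ A).left ≫ A.hom = 𝟙 S := Over.w η[A]
        rw [this]; exact (Category.comp_id _).symm
      rw [h4, ← Category.assoc, IsClosedImmersion.lift_fac, Over.w x]
    rw [h3]
    rfl

/-- Finitely many homomorphisms out of a family have the same common kernel as the whole family. -/
theorem exists_finite_common_kernel {X : Over S} [IsNoetherian X.left] {J : Type v} (A : J → Over S)
    [∀ i, GrpObj (A i)] [∀ i, IsSeparated (A i).hom] (f : ∀ i, X ⟶ A i) :
    ∃ (n : ℕ) (s : Fin n → J), ∀ (T : Over S) (x : T ⟶ X), (∀ j, x ≫ f (s j) = 1) → ∀ i, x ≫ f i = 1 := by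
  obtain ⟨n, s, hs⟩ := exists_fin_iSup fun i => (pullback.fst (f i).left (η[A i] : 𝟙_ (Over S) ⟶ A i).left).ker
  refine ⟨n, s, fun T x hx i => ?_⟩
  rw [comp_eq_one_iff_ker_le]
  refine (hs i).trans (iSup_le fun j => ?_)
  exact (comp_eq_one_iff_ker_le _ _ _).1 (hx j)

end K520.Noeth
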