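import Mathlib.NumberTheory.Padics.RingHoms
import Mathlib.RingTheory.Nakayama
import Mathlib.RingTheory.Finiteness.Cardinality
import Mathlib.RingTheory.OrzechProperty
import Mathlib.RingTheory.FiniteType

/-!
# Approximation modulo `l`
-/

set_option autoImplicit false

namespace K520.Approx

variable {l : ℕ} [Fact l.Prime] {M N : Type*} [AddCommGroup M] [Module ℤ_[l] M] [AddCommGroup N] [Module ℤ_[l] N]

/-- A `ℤ_l`-linear combination of elements of an additive subgroup `H` is congruent to an element of `H` modulo `l`. -/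
theorem exists_approx (H : AddSubgroup M) (u : M) (hu : u ∈ Submodule.span ℤ_[l] (H : Set M)) :
    ∃ h ∈ H, ∃ w : M, u - h = (l : ℤ_[l]) • w := by
  induction hu using Submodule.span_induction with
  | mem x hx => exact ⟨x, hx, 0, by simp⟩
  | zero => exact ⟨0, H.zero_mem, 0, by simp⟩
  | add x y _ _ hx hy =>
    obtain ⟨a, ha, w, hw⟩ := hx
    obtain ⟨b, hb, w', hw'⟩ := hy
    exact ⟨a + b, H.add_mem ha hb, w + w', by rw [smul_add, ← hw, ← hw']; abel⟩
  | smul c x _ hx =>
    obtain ⟨a, ha, w, hw⟩ := hx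
    obtain ⟨n, -, hn⟩ := PadicInt.exists_mem_range c
    rw [PadicInt.maximalIdeal_eq_span_p, Ideal.mem_span_singleton'] at hn
    obtain ⟨d, hd⟩ := hn
    refine ⟨n • a, H.nsmul_mem ha n, c • w + d • a, ?_⟩
    have h1 : c = d * l + n := by rw [hd]; ring
    have h2 : x = a + (l : ℤ_[l]) • w := by rw [← hw]; abel
    rw [smul_add, smul_smul, smul_smul, ← Nat.cast_smul_eq_nsmul ℤ_[l] n a, h2, smul_add, smul_smul]
    conv_lhs => rw [h1]
    rw [add_smul, add_mul, add_smul]
    rw [mul_comm d, h1]
    simp only [add_mul, mul_add, add_smul]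
    rw [mul_comm (l : ℤ_[l]) (d * l), mul_comm (l : ℤ_[l]) (n : ℤ_[l]), mul_comm (l : ℤ_[l]) d]
    abel

/-- A perturbation of an isomorphism by `l` is an isomorphism. -/
theorem bijective_of_approx [Module.Finite ℤ_[l] M] (e : M ≃ₗ[ℤ_[l]] N) (f w : M →ₗ[ℤ_[l]] N)
    (h : (e : M →ₗ[ℤ_[l]] N) - f = (l : ℤ_[l]) • w) : Function.Bijective f := by
  let g : M →ₗ[ℤ_[l]] M := (e.symm : N →ₗ[ℤ_[l]] M) ∘ₗ f
  have hg : Function.Surjective g := by
    rw [← LinearMap.range_eq_top, eq_top_iff]
    refine Submodule.le_of_le_smul_of_le_jacobson_bot (I := IsLocalRing.maximalIdeal ℤ_[l]) Module.Finite.fg_top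
      (IsLocalRing.maximalIdeal_le_jacobson _) ?_
    intro x _
    have h1 : x = g x + (l : ℤ_[l]) • e.symm (w x) := by
      have h2 : e x - f x = (l : ℤ_[l]) • w x := congrArg (fun F => F x) h
      have h3 := congrArg e.symm h2
      rw [map_sub, map_smul, LinearEquiv.symm_apply_apply] at h3
      rw [← h3]
      change x = e.symm (f x) + (x - e.symm (f x))
      abel
    rw [h1]
    refine Submodule.add_mem_sup ⟨x, rfl⟩ (Submodule.smul_mem_smul ?_ Submodule.mem_top)
    rw [PadicInt.maximalIdeal_eq_span_p]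
    exact Ideal.mem_span_singleton_self _
  have hg' : Function.Bijective g := ⟨OrzechProperty.injective_of_surjective_endomorphism g hg, hg⟩
  have hf : (f : M → N) = e ∘ g := by
    funext x
    change f x = e (e.symm (f x))
    rw [LinearEquiv.apply_symm_apply]
  rw [hf]
  exact e.bijective.comp hg'

end K520.Approx
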