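import Mathlib.GroupTheory.FiniteAbelian.Basic
import Mathlib.GroupTheory.Index

/-!
# Subgroups of finite index of finitely generated abelian groups
-/

set_option autoImplicit false

namespace K520.FinIdx

theorem finiteIndex_of_nsmul {G : Type*} [AddCommGroup G] [Module.Finite ℤ G] (M : AddSubgroup G) (n : ℕ)
    (hn : 0 < n) (h : ∀ g : G, n • g ∈ M) : M.FiniteIndex := by
  have hfin : Module.Finite ℤ (G ⧸ M) :=
    Module.Finite.of_surjective (QuotientAddGroup.mk' M).toIntLinearMap (QuotientAddGroup.mk'_surjective M)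
  have htor : Module.IsTorsion ℤ (G ⧸ M) := by
    intro x
    refine ⟨⟨(n : ℤ), mem_nonZeroDivisors_of_ne_zero (by exact_mod_cast hn.ne')⟩, ?_⟩
    obtain ⟨g, rfl⟩ := QuotientAddGroup.mk'_surjective M x
    change (n : ℤ) • (QuotientAddGroup.mk' M) g = 0
    rw [natCast_zsmul, ← map_nsmul]
    exact (QuotientAddGroup.eq_zero_iff _).2 (h g)
  have : Finite (G ⧸ M) := Module.finite_of_fg_torsion (G ⧸ M) htor
  exact AddSubgroup.finiteIndex_of_finite_quotient

end K520.FinIdx
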