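import Groth.Agent.AbVar.K520.Frob

/-!
# The condition `P(Frobenius) = 0` on a commutative group scheme over a finite field

`K520.FrP.FrP k P X`: the integral polynomial `P` kills the Frobenius endomorphism of `X`.
* `frP_iff`: it is the hypothesis of the rows for any endomorphism satisfying the Frobenius conditions.
* `frP_of_jointly_mono`, `frP_of_epi`: it passes to subobjects, products and quotients.
-/

set_option autoImplicit false
universe u v

open CategoryTheory AlgebraicGeometry Limits MonoidalCategory CartesianMonoidalCategory MonObj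

namespace K520.FrP

open K520.Frob

variable (k : Type u) [Field k] [Finite k] (P : Polynomial ℤ)

/-- `P(π_X) = 0` for the Frobenius endomorphism `π_X` of `X`. -/
def FrP (X : Over (Spec (CommRingCat.of k))) [GrpObj X] [IsCommMonObj X] : Prop :=
  Polynomial.eval₂ (Int.castRingHom (EndAV.End X)) (EndAV.End.of (fr k X)) P = 0

variable {k P}

theorem frP_iff {X : Over (Spec (CommRingCat.of k))} [GrpObj X] [IsCommMonObj X] (π : X ⟶ X) [hm : IsMonHom π]
    (h : IsFrob (Nat.card k) π.left) :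
    Polynomial.eval₂ (Int.castRingHom (EndAV.End X)) (EndAV.End.of π) P = 0 ↔ FrP k P X := by
  obtain rfl := eq_fr k X π h
  exact Iff.rfl

theorem frP_of_hyps {X : Over (Spec (CommRingCat.of k))} [GrpObj X] [IsCommMonObj X] (π : X ⟶ X) [IsMonHom π]
    (hb : π.left.base = 𝟙 _) (hle : ∀ U : X.left.Opens, U ≤ π.left ⁻¹ᵁ U)
    (happ : ∀ (U : X.left.Opens) (s : Γ(X.left, U)), (π.left.appLE U U (hle U)).hom s = s ^ Nat.card k)
    (hP : Polynomial.eval₂ (Int.castRingHom (EndAV.End X)) (EndAV.End.of π) P = 0) : FrP k P X :=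
  (frP_iff π ⟨hb, hle, happ⟩).1 hP

/-- the Frobenius commutes with homomorphisms -/
theorem eval₂_comm {X Y : Over (Spec (CommRingCat.of k))} [GrpObj X] [IsCommMonObj X] [GrpObj Y] [IsCommMonObj Y]
    (φ : EndAV.Hom X Y) (P : Polynomial ℤ) :
    ((Polynomial.eval₂ (Int.castRingHom (EndAV.End X)) (EndAV.End.of (fr k X)) P : EndAV.End X) : EndAV.Hom X X) ≫ φ =
      φ ≫ ((Polynomial.eval₂ (Int.castRingHom (EndAV.End Y)) (EndAV.End.of (fr k Y)) P : EndAV.End Y) :
        EndAV.Hom Y Y) := by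
  refine eval₂_mul_comp φ _ _ ?_ P
  exact EndAV.Hom.ext (fr_comm k φ.toHom)

theorem frP_of_jointly_mono {X : Over (Spec (CommRingCat.of k))} [GrpObj X] [IsCommMonObj X] {J : Type v}
    (Y : J → Over (Spec (CommRingCat.of k))) [∀ i, GrpObj (Y i)] [∀ i, IsCommMonObj (Y i)]
    (φ : ∀ i, EndAV.Hom X (Y i)) (hφ : ∀ a : EndAV.Hom X X, (∀ i, a ≫ φ i = 0) → a = 0)
    (h : ∀ i, FrP k P (Y i)) : FrP k P X := by
  refine hφ _ fun i => ?_
  refine (eval₂_comm (φ i) P).trans ?_
  have h1 := h i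
  unfold FrP at h1
  rw [h1]
  exact comp_zero

theorem frP_of_epi {X Y : Over (Spec (CommRingCat.of k))} [GrpObj X] [IsCommMonObj X] [GrpObj Y] [IsCommMonObj Y]
    (φ : EndAV.Hom X Y) (hφ : ∀ a : EndAV.Hom Y Y, φ ≫ a = 0 → a = 0)
    (h : FrP k P X) : FrP k P Y := by
  refine hφ _ ?_
  refine (eval₂_comm φ P).symm.trans ?_
  unfold FrP at h
  rw [h]
  exact zero_comp

end K520.FrP
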