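import Groth.Agent.AbVar.K517.Simple
import Groth.Agent.AbVar.K520.Quot

/-!
# Homomorphisms killing the reduced identity component of a kernel

For a homomorphism `h : B ⟶ E` of abelian varieties over any field with image factorization `h = p ≫ i`, there is an
abelian subvariety `x : X ⟶ B` with `x ≫ h = 0` such that every homomorphism `r : B ⟶ A` with `x ≫ r = 0` has a
nonzero multiple factoring through `p`.
-/

set_option autoImplicit false
universe u

open CategoryTheory MonoidalCategory CartesianMonoidalCategory MonObj GrpObj AlgebraicGeometry Limits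

namespace K520.KerSub

variable {k : Type u} [Field k]

theorem nat_cancel {a b c d : WithBot ℕ∞} (ha : ∃ n : ℕ, a = n) (hb : ∃ n : ℕ, b = n) (hc : ∃ n : ℕ, c = n)
    (h : a + c = b + c) : a = b := by
  obtain ⟨a, rfl⟩ := ha
  obtain ⟨b, rfl⟩ := hb
  obtain ⟨c, rfl⟩ := hc
  have h' : ((a + c : ℕ) : WithBot ℕ∞) = ((b + c : ℕ) : WithBot ℕ∞) := by
    rw [Nat.cast_add, Nat.cast_add]; exact h
  have : a + c = b + c := by exact_mod_cast h'
  have : a = b := by omega
  rw [this]

theorem exists_ker {B E : Over (Spec (CommRingCat.of k))} [GrpObj B] [IsCommMonObj B] [IsProper B.hom]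
    [GeometricallyIntegral B.hom] [GrpObj E] [IsCommMonObj E] [IsProper E.hom] (h : EndAV.Hom B E) :
    ∃ (X C : Over (Spec (CommRingCat.of k))) (_ : GrpObj X) (_ : IsCommMonObj X) (_ : IsProper X.hom)
      (_ : GeometricallyIntegral X.hom) (_ : GrpObj C) (_ : IsCommMonObj C) (_ : IsProper C.hom)
      (_ : GeometricallyIntegral C.hom) (x : EndAV.Hom X B) (p : EndAV.Hom B C) (i : EndAV.Hom C E),
      IsClosedImmersion x.toHom.left ∧ IsClosedImmersion i.toHom.left ∧ Flat p.toHom.left ∧
      Surjective p.toHom.left ∧ p ≫ i = h ∧ x ≫ p = 0 ∧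
      ∀ (A : Over (Spec (CommRingCat.of k))) [GrpObj A] [IsCommMonObj A] [IsProper A.hom] (r : EndAV.Hom B A),
        x ≫ r = 0 → ∃ n : ℕ, 0 < n ∧ ∃ c : EndAV.Hom C A, n • r = p ≫ c := by
  obtain ⟨C, _, _, _, _, p, i, hpi, hp1, hp2, hp3, hi⟩ := K520.Quot.exists_image h
  obtain ⟨F, gF, f, hf, hF⟩ := Groth.Agent.Grpsch.KerMul.exists_kernel p.toHom
  have hfc := K517.Simple.isClosedImmersion_kernel p.toHom f hF
  obtain ⟨X, gX, b, hb1, hb2, hb3, hb4, hb5⟩ := K517.SubAV.exists_subvariety f
  have hXc : IsCommMonObj X := isCommMonObj_of_isProper_of_geometricallyIntegral X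
  have hcl : IsClosedImmersion (b ≫ f).left := by rw [Over.comp_left]; infer_instance
  have hbf : IsMonHom (b ≫ f) := inferInstance
  obtain ⟨D, _, _, _, _, q, hq1, hq2, hq3, hqK⟩ := K520.Quot.exists_quotient B X (b ≫ f)
  have hxp : (b ≫ f) ≫ p.toHom = 1 := by
    rw [Category.assoc, K520.Quot.kernel_comp hF, MonObj.comp_one]
  obtain ⟨pb, hpb⟩ := K520.Quot.exists_desc q (b ≫ f) hqK p hxp
  have hs : Surjective pb.toHom.left := by
    have e : q.toHom.left ≫ pb.toHom.left = p.toHom.left := by rw [← hpb]; rfl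
    have : Surjective (q.toHom.left ≫ pb.toHom.left) := by rw [e]; infer_instance
    exact Surjective.of_comp q.toHom.left pb.toHom.left
  have hqc1 : QuasiCompact p.toHom.left := Groth.Agent.Sga7.H760.FieldHom.quasiCompact_left p.toHom
  have hqc2 : QuasiCompact q.toHom.left := Groth.Agent.Sga7.H760.FieldHom.quasiCompact_left q.toHom
  have hd1 := K517.Img.dim_eq p.toHom f hF
  have hd2 := K517.Img.dim_eq q.toHom (b ≫ f) hqK
  have hD : topologicalKrullDim D.left = topologicalKrullDim C.left := by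
    refine nat_cancel (c := topologicalKrullDim X.left) (d := 0) (K517.Img.exists_dim D) (K517.Img.exists_dim C)
      (K517.Img.exists_dim X) ?_
    rw [← hd2, hb5, ← hd1]
  obtain ⟨n, v, hn, hv, hv1, hv2⟩ := K517.Isog.exists_rev_of_surjective pb.toHom hD.le
  refine ⟨X, C, inferInstance, inferInstance, inferInstance, inferInstance, inferInstance, inferInstance,
    inferInstance, inferInstance, EndAV.Hom.of (b ≫ f), p, i, hcl, hi, hp1, hp2, hpi, EndAV.Hom.ext hxp, ?_⟩
  intro A _ _ _ r hr
  obtain ⟨rb, hrb⟩ := K520.Quot.exists_desc q (b ≫ f) hqK r (congrArg EndAV.Hom.toHom hr)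
  refine ⟨n, hn, EndAV.Hom.of v ≫ rb, ?_⟩
  have h1 : pb ≫ EndAV.Hom.of v = n • 𝟙 _ := by
    apply EndAV.Hom.ext
    rw [EndAV.Hom.toHom_nsmul]
    exact hv1
  rw [← hpb, ← hrb, Category.assoc, ← Category.assoc pb, h1, Preadditive.nsmul_comp, Category.id_comp,
    Preadditive.comp_nsmul]

end K520.KerSub
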