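import Groth.Agent.AbVar.K521.CharPol
import Groth.Agent.AbVar.K520.HomFg
import Groth.Agent.AbVar.K520.TateFin
import Groth.Agent.AbVar.K519.Tate

/-!
# Homomorphisms inducing isomorphisms of `l`-adic Tate modules are isogenies of degree prime to `l`
-/

set_option autoImplicit false
universe u

open CategoryTheory Limits MonoidalCategory CartesianMonoidalCategory AlgebraicGeometry Polynomial
open scoped MonObj Obj

namespace K520.UnitIsog

/-- Faithfulness of the Tate module over algebraically closed fields. -/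
def Faith (l : ℕ) [Fact l.Prime] : Prop :=
  ∀ (k : Type u) [Field k] [IsAlgClosed k] (_ : (l : k) ≠ 0) (A B : Over (Spec (CommRingCat.of k)))
    [GrpObj A] [IsCommMonObj A] [IsProper A.hom] [GeometricallyIntegral A.hom]
    [GrpObj B] [IsCommMonObj B] [IsProper B.hom] [GeometricallyIntegral B.hom] (φ : A ⟶ B) [IsMonHom φ]
    (_ : AbDual.tateMapₗ (l := l) (T := Over.mk (𝟙 (Spec (CommRingCat.of k)))) φ = 0), φ = 1

section

variable {k : Type u} (Ω : Type u) [Field k] [Field Ω] [Algebra k Ω] [IsAlgClosed Ω] {l : ℕ} [Fact l.Prime]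
  {A B : Over (Spec (CommRingCat.of k))}
  [GrpObj A] [IsCommMonObj A] [IsProper A.hom] [GeometricallyIntegral A.hom]
  [GrpObj B] [IsCommMonObj B] [IsProper B.hom] [GeometricallyIntegral B.hom]

theorem eq_zero (faith : Faith.{u} l) (hl : (l : k) ≠ 0) (φ : EndAV.Hom A B)
    (h : EndAV.Hom.tateMap l (SGA7.pt (K := k) Ω) φ = 0) : φ = 0 := by
  let f : Spec (CommRingCat.of Ω) ⟶ Spec (CommRingCat.of k) := Spec.map (CommRingCat.ofHom (algebraMap k Ω))
  have iA1 : IsProper ((Over.pullback f).obj A).hom := by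
    change IsProper (pullback.snd A.hom f); infer_instance
  have iA2 : GeometricallyIntegral ((Over.pullback f).obj A).hom := by
    change GeometricallyIntegral (pullback.snd A.hom f); infer_instance
  have iA3 : IsCommMonObj ((Over.pullback f).obj A) := isCommMonObj_of_isProper_of_geometricallyIntegral _
  have iB1 : IsProper ((Over.pullback f).obj B).hom := by
    change IsProper (pullback.snd B.hom f); infer_instance
  have iB2 : GeometricallyIntegral ((Over.pullback f).obj B).hom := by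
    change GeometricallyIntegral (pullback.snd B.hom f); infer_instance
  have iB3 : IsCommMonObj ((Over.pullback f).obj B) := isCommMonObj_of_isProper_of_geometricallyIntegral _
  have hl' : (l : Ω) ≠ 0 := by
    rw [← map_natCast (algebraMap k Ω), Ne, map_eq_zero]; exact hl
  let e : AbDual.TateMod A l (SGA7.pt (K := k) Ω) ≃ₗ[ℤ_[l]]
      AbDual.TateMod ((Over.pullback f).obj A) l (Over.mk (𝟙 (Spec (CommRingCat.of Ω)))) :=
    K521.BcTate.tateCongr l (K521.BcTate.ptsEquiv f A)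
  let e' : AbDual.TateMod B l (SGA7.pt (K := k) Ω) ≃ₗ[ℤ_[l]]
      AbDual.TateMod ((Over.pullback f).obj B) l (Over.mk (𝟙 (Spec (CommRingCat.of Ω)))) :=
    K521.BcTate.tateCongr l (K521.BcTate.ptsEquiv f B)
  have h0 : AbDual.tateMapₗ (l := l) (T := Over.mk (𝟙 (Spec (CommRingCat.of Ω)))) ((Over.pullback f).map φ.toHom) = 0 := by
    refine LinearMap.ext fun x => ?_
    obtain ⟨y, rfl⟩ := e.surjective x
    have h1 : AbDual.tateMapₗ (l := l) (T := Over.mk (𝟙 (Spec (CommRingCat.of Ω)))) ((Over.pullback f).map φ.toHom) (e y) =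
        e' (EndAV.Hom.tateMap l (SGA7.pt (K := k) Ω) φ y) := by
      refine AbDual.TateMod.ext fun n => ?_
      exact (congrArg Additive.ofMul
        (K521.BcTate.toPt_comp f A ((y : ℕ → Additive (SGA7.pt (K := k) Ω ⟶ A)) n).toMul φ.toHom)).symm
    rw [h1, h]
    exact map_zero e'
  have h2 := faith Ω hl' _ _ ((Over.pullback f).map φ.toHom) h0
  apply EndAV.Hom.ext
  refine K520.HomFg.map_injective f ?_
  exact h2.trans (Functor.map_one (Over.pullback f) (X := A) (M := B)).symm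

/-- An endomorphism which is invertible on the Tate module divides an integer prime to `l`. -/
theorem exists_inv (faith : Faith.{u} l) (key : K521.CharPol.Key.{u} l) (hl : (l : k) ≠ 0) (φ : EndAV.End A)
    (hφ : Function.Bijective (EndAV.End.tateRep l (SGA7.pt (K := k) Ω) φ)) :
    ∃ (ψ : EndAV.End A) (N : ℕ), 0 < N ∧ ¬ l ∣ N ∧ φ * ψ = N ∧ ψ * φ = N := by
  haveI hfin : Module.Finite ℤ_[l] (AbDual.TateMod A l (SGA7.pt (K := k) Ω)) := K520.TateFin.finite_tateMod Ω A l hl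
  haveI hfree : Module.Free ℤ_[l] (AbDual.TateMod A l (SGA7.pt (K := k) Ω)) := Module.free_of_finite_type_torsion_free'
  obtain ⟨g, hg⟩ := K520.HomFg.exists_dim A
  obtain ⟨P, -, -, hP⟩ := K521.CharPol.exists_charpoly k Ω l key hl A g hg φ
  -- `P(φ) = 0`
  have h1 : aeval φ P = 0 := by
    have h2 : EndAV.End.tateRep l (SGA7.pt (K := k) Ω) (aeval φ P) = 0 := by
      have h3 := LinearMap.aeval_self_charpoly (EndAV.End.tateRep l (SGA7.pt (K := k) Ω) φ)
      rw [hP, aeval_def, eval₂_map] at h3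
      rw [aeval_def, hom_eval₂]
      refine Eq.trans ?_ h3
      congr 1
      exact RingHom.ext_int _ _
    exact eq_zero Ω faith hl (A := A) (B := A) (aeval φ P) h2
  -- the constant coefficient
  have h4 : ¬ (l : ℤ) ∣ P.coeff 0 := by
    intro hdvd
    have hu : IsUnit (LinearMap.det (EndAV.End.tateRep l (SGA7.pt (K := k) Ω) φ)) := by
      let e := LinearEquiv.ofBijective _ hφ
      have : (EndAV.End.tateRep l (SGA7.pt (K := k) Ω) φ) = (e : _ →ₗ[ℤ_[l]] _) := rfl
      rw [this]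
      exact LinearEquiv.isUnit_det' e
    rw [LinearMap.det_eq_sign_charpoly_coeff, hP, coeff_map] at hu
    have hu2 : IsUnit ((Int.castRingHom ℤ_[l]) (P.coeff 0)) := isUnit_of_mul_isUnit_right hu
    obtain ⟨c, hc⟩ := hdvd
    rw [hc, map_mul] at hu2
    have hu3 : IsUnit ((l : ℤ_[l])) := by
      have := isUnit_of_mul_isUnit_left hu2
      simpa using this
    exact PadicInt.p_nonunit hu3
  obtain ⟨Q, hQ⟩ : ∃ Q : ℤ[X], P = X * Q + C (P.coeff 0) := ⟨P.divX, (X_mul_divX_add P).symm⟩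
  have h5 : φ * aeval φ Q = -((P.coeff 0 : ℤ) : EndAV.End A) := by
    have h6 : aeval φ P = φ * aeval φ Q + ((P.coeff 0 : ℤ) : EndAV.End A) := by
      conv_lhs => rw [hQ]
      rw [map_add, map_mul, aeval_X, aeval_C, eq_intCast]
    rw [eq_neg_iff_add_eq_zero, ← h6, h1]
  have hcomm : φ * aeval φ Q = aeval φ Q * φ := by
    have h6 : aeval φ (X * Q) = aeval φ (Q * X) := by rw [mul_comm]
    rwa [map_mul, map_mul, aeval_X] at h6
  have h0 : P.coeff 0 ≠ 0 := fun h => h4 (h ▸ dvd_zero _)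
  rcases Int.natAbs_eq (P.coeff 0) with h7 | h7
  · refine ⟨-aeval φ Q, (P.coeff 0).natAbs, Int.natAbs_pos.2 h0, fun h => h4 (Int.natCast_dvd.2 h), ?_, ?_⟩
    · rw [mul_neg, h5, neg_neg]
      conv_lhs => rw [h7]
      rw [Int.cast_natCast]
    · rw [neg_mul, ← hcomm, h5, neg_neg]
      conv_lhs => rw [h7]
      rw [Int.cast_natCast]
  · refine ⟨aeval φ Q, (P.coeff 0).natAbs, Int.natAbs_pos.2 h0, fun h => h4 (Int.natCast_dvd.2 h), ?_, ?_⟩
    · rw [h5]
      conv_lhs => rw [h7]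
      rw [Int.cast_neg, neg_neg, Int.cast_natCast]
    · rw [← hcomm, h5]
      conv_lhs => rw [h7]
      rw [Int.cast_neg, neg_neg, Int.cast_natCast]

/-- Homomorphisms in both directions inducing isomorphisms of Tate modules: then `f` is an isogeny of degree prime
to `l`. -/
theorem exists_rev (faith : Faith.{u} l) (key : K521.CharPol.Key.{u} l) (hl : (l : k) ≠ 0) (f : EndAV.Hom A B)
    (f' : EndAV.Hom B A)
    (hf : Function.Bijective (EndAV.Hom.tateMap l (SGA7.pt (K := k) Ω) f))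
    (hf' : Function.Bijective (EndAV.Hom.tateMap l (SGA7.pt (K := k) Ω) f')) :
    ∃ (g : EndAV.Hom B A) (N : ℕ), 0 < N ∧ ¬ l ∣ N ∧ f.toHom ≫ g.toHom = (𝟙 A) ^ N ∧ g.toHom ≫ f.toHom = (𝟙 B) ^ N := by
  have hA : Function.Bijective (EndAV.End.tateRep l (SGA7.pt (K := k) Ω) (f ≫ f' : EndAV.Hom A A)) := by
    have : (EndAV.End.tateRep l (SGA7.pt (K := k) Ω) (f ≫ f' : EndAV.Hom A A) : _ → _) =
      EndAV.Hom.tateMap l (SGA7.pt (K := k) Ω) f' ∘ EndAV.Hom.tateMap l (SGA7.pt (K := k) Ω) f := by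
      funext x
      exact AbDual.TateMod.ext fun n => congrArg Additive.ofMul
        (Category.assoc ((x : ℕ → Additive (SGA7.pt (K := k) Ω ⟶ A)) n).toMul f.toHom f'.toHom).symm
    rw [this]
    exact hf'.comp hf
  have hB : Function.Bijective (EndAV.End.tateRep l (SGA7.pt (K := k) Ω) (f' ≫ f : EndAV.Hom B B)) := by
    have : (EndAV.End.tateRep l (SGA7.pt (K := k) Ω) (f' ≫ f : EndAV.Hom B B) : _ → _) =
      EndAV.Hom.tateMap l (SGA7.pt (K := k) Ω) f ∘ EndAV.Hom.tateMap l (SGA7.pt (K := k) Ω) f' := by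
      funext x
      exact AbDual.TateMod.ext fun n => congrArg Additive.ofMul
        (Category.assoc ((x : ℕ → Additive (SGA7.pt (K := k) Ω ⟶ B)) n).toMul f'.toHom f.toHom).symm
    rw [this]
    exact hf.comp hf'
  obtain ⟨ψ, N, hN, hlN, -, h1⟩ := exists_inv Ω faith key hl (A := A) (f ≫ f' : EndAV.Hom A A) hA
  obtain ⟨ψ', N', hN', hlN', h2, -⟩ := exists_inv Ω faith key hl (A := B) (f' ≫ f : EndAV.Hom B B) hB
  -- `f ≫ g = N`, `g' ≫ f = N'`
  have e1 : f ≫ (f' ≫ (ψ : EndAV.Hom A A)) = N • (𝟙 _ : EndAV.Hom A A) := by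
    have h3 : (f ≫ f') ≫ (ψ : EndAV.Hom A A) = ((N : ℕ) : EndAV.End A) := h1
    rw [← Category.assoc, h3]
    exact (nsmul_one (A := EndAV.End A) N).symm
  have e2 : ((ψ' : EndAV.Hom B B) ≫ f') ≫ f = N' • (𝟙 _ : EndAV.Hom B B) := by
    have h3 : (ψ' : EndAV.Hom B B) ≫ (f' ≫ f) = ((N' : ℕ) : EndAV.End B) := h2
    rw [Category.assoc, h3]
    exact (nsmul_one (A := EndAV.End B) N').symm
  have e3 : N' • (f' ≫ (ψ : EndAV.Hom A A)) = N • ((ψ' : EndAV.Hom B B) ≫ f') := by
    calc N' • (f' ≫ (ψ : EndAV.Hom A A)) = (N' • (𝟙 _ : EndAV.Hom B B)) ≫ (f' ≫ (ψ : EndAV.Hom A A)) := by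
          rw [Preadditive.nsmul_comp, Category.id_comp]
      _ = ((ψ' : EndAV.Hom B B) ≫ f') ≫ (f ≫ (f' ≫ (ψ : EndAV.Hom A A))) := by rw [← e2, Category.assoc]
      _ = N • ((ψ' : EndAV.Hom B B) ≫ f') := by rw [e1, Preadditive.comp_nsmul, Category.comp_id]
  refine ⟨N' • (f' ≫ (ψ : EndAV.Hom A A)), N' * N, Nat.mul_pos hN' hN,
    fun h => ((Nat.Prime.dvd_mul (Fact.out : l.Prime)).1 h).elim hlN' hlN, ?_, ?_⟩
  · have h3 : f ≫ (N' • (f' ≫ (ψ : EndAV.Hom A A))) = (N' * N) • (𝟙 _ : EndAV.Hom A A) := by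
      rw [Preadditive.comp_nsmul, e1, mul_nsmul']
    have h4 := congrArg EndAV.Hom.toHom h3
    rw [EndAV.Hom.toHom_nsmul] at h4
    exact h4
  · have h3 : (N' • (f' ≫ (ψ : EndAV.Hom A A))) ≫ f = (N' * N) • (𝟙 _ : EndAV.Hom B B) := by
      rw [e3, Preadditive.nsmul_comp, e2, mul_comm, mul_nsmul']
    have h4 := congrArg EndAV.Hom.toHom h3
    rw [EndAV.Hom.toHom_nsmul] at h4
    exact h4

end

end K520.UnitIsog
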